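import Mathlib

/-!
# Linear maps out of a cyclic module; modules over a quotient presented over the base (helper2)
-/

set_option autoImplicit false
universe u

namespace Groth.Agent.Lib.Helper2.RegExt

section Cyclic

variable {A : Type u} [CommRing A] {B' N : Type u} [AddCommGroup B'] [Module A B']
  [AddCommGroup N] [Module A N]

/-- evaluation at a generator: `Hom_A(B', N) ≃ N` for `B'` cyclic generated by `b₀` whose
annihilator kills `N`. -/
noncomputable def cyclicHomEquiv (b₀ : B') (hsurj : ∀ b : B', ∃ a : A, a • b₀ = b)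
    (hN : ∀ a : A, a • b₀ = 0 → ∀ n : N, a • n = 0) : (B' →ₗ[A] N) ≃ₗ[A] N :=
  LinearEquiv.ofBijective
    { toFun := fun f => f b₀
      map_add' := fun f g => rfl
      map_smul' := fun a f => rfl }
    ⟨by
      intro f g hfg
      ext b
      obtain ⟨a, rfl⟩ := hsurj b
      rw [map_smul, map_smul]
      exact congrArg (a • ·) hfg, by
      intro n
      let φ : A →ₗ[A] B' := LinearMap.toSpanSingleton A B' b₀
      have hφ : Function.Surjective φ := fun b => by
        obtain ⟨a, ha⟩ := hsurj b
        exact ⟨a, by simpa [φ] using ha⟩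
      have hle : LinearMap.ker φ ≤ LinearMap.ker (LinearMap.toSpanSingleton A N n) := by
        intro a ha
        rw [LinearMap.mem_ker] at ha ⊢
        have ha' : a • b₀ = 0 := by simpa [φ] using ha
        simpa using hN a ha' n
      refine ⟨((LinearMap.ker φ).liftQ (LinearMap.toSpanSingleton A N n) hle).comp
        (φ.quotKerEquivOfSurjective hφ).symm.toLinearMap, ?_⟩
      have h1 : (φ.quotKerEquivOfSurjective hφ).symm b₀ = Submodule.Quotient.mk (1 : A) := by
        rw [LinearEquiv.symm_apply_eq]
        change b₀ = φ.quotKerEquivOfSurjective hφ (Submodule.Quotient.mk (1 : A))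
        rw [LinearMap.quotKerEquivOfSurjective_apply_mk]
        simp [φ]
      change ((LinearMap.ker φ).liftQ (LinearMap.toSpanSingleton A N n) hle)
        ((φ.quotKerEquivOfSurjective hφ).symm b₀) = n
      rw [h1, Submodule.liftQ_apply]
      simp⟩

@[simp]
theorem cyclicHomEquiv_apply (b₀ : B') (hsurj : ∀ b : B', ∃ a : A, a • b₀ = b)
    (hN : ∀ a : A, a • b₀ = 0 → ∀ n : N, a • n = 0) (f : B' →ₗ[A] N) :
    cyclicHomEquiv b₀ hsurj hN f = f b₀ := rfl

end Cyclic

section Quot

open TensorProduct

variable {A B : Type u} [CommRing A] [CommRing B] [Algebra A B]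
  (hAB : Function.Surjective (algebraMap A B))
  {W Q : Type u} [AddCommGroup W] [Module A W] [AddCommGroup Q] [Module A Q] [Module B Q]
  [IsScalarTower A B Q]

/-- `B ⊗_A W ≃ W / IW` for `B = A/I`. -/
noncomputable def tensorEquivQuot :
    (B ⊗[A] W) ≃ₗ[A]
      (W ⧸ (RingHom.ker (algebraMap A B) • ⊤ : Submodule A W)) :=
  (TensorProduct.congr
    (Ideal.quotientKerAlgEquivOfSurjective (f := Algebra.ofId A B) hAB).symm.toLinearEquiv
    (LinearEquiv.refl A W)).trans
    (TensorProduct.quotTensorEquivQuotSMul W (RingHom.ker (Algebra.ofId A B)))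

include hAB in
/-- a `B`-module which over `A` is `W/IW` with `W` finite projective over `A` is finite
projective over `B = A/I`. -/
theorem finite_projective_of_equiv_quot [Module.Finite A W] [Module.Projective A W]
    (e : Q ≃ₗ[A] (W ⧸ (RingHom.ker (algebraMap A B) • ⊤ : Submodule A W))) :
    Module.Finite B Q ∧ Module.Projective B Q := by
  let e' : (B ⊗[A] W) ≃ₗ[A] Q := (tensorEquivQuot hAB).trans e.symm
  let e'' : (B ⊗[A] W) ≃ₗ[B] Q := LinearEquiv.extendScalarsOfSurjective hAB e'
  exact ⟨Module.Finite.equiv e'', Module.Projective.of_equiv e''⟩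

include hAB in
/-- a `B`-module which over `A` is `W/IW` with `W` free of rank `n` over `A` is free of rank `n`
over `B = A/I`. -/
theorem nonempty_basis_of_equiv_quot {n : ℕ} (b : Module.Basis (Fin n) A W)
    (e : Q ≃ₗ[A] (W ⧸ (RingHom.ker (algebraMap A B) • ⊤ : Submodule A W))) :
    Nonempty (Module.Basis (Fin n) B Q) := by
  let e' : (B ⊗[A] W) ≃ₗ[A] Q := (tensorEquivQuot hAB).trans e.symm
  let e'' : (B ⊗[A] W) ≃ₗ[B] Q := LinearEquiv.extendScalarsOfSurjective hAB e'
  exact ⟨(b.baseChange B).map e''⟩

end Quot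

end Groth.Agent.Lib.Helper2.RegExt
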