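import Groth.Agent.Lib.Helper2.RegExt.ShiftIso
import Groth.Agent.Lib.Helper2.ExtTilde.Chart

/-!
# Sections of `ℰxt^c(G, F)` over an affine open on which a regular sequence of length `c`
kills `G` (helper2)

`Γ(V, ℰxt^c(G, F)) ≃ Hom(G(V), F(V)/rs F(V))`; no finiteness or Noetherian hypotheses.
-/

set_option autoImplicit false
set_option linter.style.haveILetI false
universe u
open CategoryTheory CategoryTheory.Limits AlgebraicGeometry TopologicalSpace Opposite
open Scheme.Modules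

noncomputable section

namespace Groth.Agent.Lib.Helper2.RegExt

open Groth.Agent.Lib.Helper3 Groth.Agent.Lib.Helper2.ExtTilde Groth.Agent.Lib.Helper2.ExtShCoh
open Groth.Agent.Lib.Helper2.ExtDepth

variable {X : Scheme.{u}}

/-- **`ℰxt^c(G, F)` on an affine chart `V` on which a weakly `F(V)`-regular sequence
of length `c` kills `G(V)`**: it is `ℋom(G(V)~, (F(V)/rs F(V))~)`. -/
theorem nonempty_restrict_extSh_iso_of_isWeaklyRegular {V : X.Opens}
    (hV : IsAffineOpen V) (G F : X.Modules) [G.IsQuasicoherent] [F.IsQuasicoherent]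
    [ModSite.HasSheafHom (O := X.sheaf) G] [HasInjectiveResolutions (ModSite.Mod X.sheaf)]
    [ModSite.HasSheafHom (O := (Spec Γ(X, V)).sheaf)
      ((tilde.functor Γ(X, V)).obj (ModuleCat.of Γ(X, V) Γ(G, V)))]
    (rs : List Γ(X, V)) (hkill : ∀ r ∈ rs, ∀ g : Γ(G, V), r • g = 0)
    (hreg : RingTheory.Sequence.IsWeaklyRegular Γ(F, V) rs) :
    Nonempty (Scheme.Modules.restrict (Y := X)
        ((ModSite.extSh (O := X.sheaf) G rs.length).obj F) hV.fromSpec ≅
      (ModSite.sheafHom (O := (Spec Γ(X, V)).sheaf)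
        ((tilde.functor Γ(X, V)).obj (ModuleCat.of Γ(X, V) Γ(G, V)))).obj
        ((tilde.functor Γ(X, V)).obj (ModuleCat.of Γ(X, V)
          (Γ(F, V) ⧸ (Ideal.ofList rs • ⊤ : Submodule Γ(X, V) Γ(F, V)))))) := by
  let R : CommRingCat.{u} := Γ(X, V)
  let K : ModuleCat.{u} R := ModuleCat.of R Γ(G, V)
  let M : ModuleCat.{u} R := ModuleCat.of R Γ(F, V)
  let N : ModuleCat.{u} R :=
    ModuleCat.of R (Γ(F, V) ⧸ (Ideal.ofList rs • ⊤ : Submodule Γ(X, V) Γ(F, V)))
  haveI := ModSite.sheafHom_additive (Spec R).sheaf ((tilde.functor R).obj K)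
  haveI := Groth.Agent.Lib.Helper13.SheafHomExact.pfl_sheafHom (O := (Spec R).sheaf)
    ((tilde.functor R).obj K)
  let e1 := extShChartIso hV G F rs.length
  let e2 := extShIsoOfIso (tildeSectionsIso hV G).symm (tildeSectionsIso hV F).symm rs.length
  have hk : ∀ r ∈ rs, Groth.Agent.Lib.Lead.HomExt.mulHom (gf (R := R) r)
      ((tilde.functor R).obj K) = 0 := by
    intro r hr
    rw [← tilde_map_smul]
    have h0 : r • 𝟙 K = 0 := by
      ext m
      exact hkill r hr m
    rw [h0, Functor.map_zero]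
  obtain ⟨e3⟩ := nonempty_extSh_iso_of_isWeaklyRegular ((tilde.functor R).obj K) rs hk M hreg
  let e0 := (ModSite.sheafHom (O := (Spec R).sheaf)
    ((tilde.functor R).obj K)).rightDerivedZeroIsoSelf.app ((tilde.functor R).obj N)
  exact ⟨e1 ≪≫ e2 ≪≫ e3 ≪≫ e0⟩

/-- **Sections of `ℰxt^c(G, F)` over an affine open `V` on which a weakly `F(V)`-regular sequence
of length `c` kills `G(V)`.** -/
theorem nonempty_sections_extSh_linearEquiv_of_isWeaklyRegular {V : X.Opens}
    (hV : IsAffineOpen V) (G F : X.Modules) [G.IsQuasicoherent] [F.IsQuasicoherent]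
    [ModSite.HasSheafHom (O := X.sheaf) G] [HasInjectiveResolutions (ModSite.Mod X.sheaf)]
    (rs : List Γ(X, V)) (hkill : ∀ r ∈ rs, ∀ g : Γ(G, V), r • g = 0)
    (hreg : RingTheory.Sequence.IsWeaklyRegular Γ(F, V) rs) :
    Nonempty (Γ(((ModSite.extSh (O := X.sheaf) G rs.length).obj F : X.Modules), V) ≃ₗ[Γ(X, V)]
      (ModuleCat.of Γ(X, V) Γ(G, V) ⟶
        ModuleCat.of Γ(X, V) (Γ(F, V) ⧸ (Ideal.ofList rs • ⊤ : Submodule Γ(X, V) Γ(F, V))))) := by
  let R : CommRingCat.{u} := Γ(X, V)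
  let K : ModuleCat.{u} R := ModuleCat.of R Γ(G, V)
  let N : ModuleCat.{u} R :=
    ModuleCat.of R (Γ(F, V) ⧸ (Ideal.ofList rs • ⊤ : Submodule Γ(X, V) Γ(F, V)))
  let H : X.Modules := (ModSite.extSh (O := X.sheaf) G rs.length).obj F
  haveI hsh : ModSite.HasSheafHom (O := (Spec R).sheaf) ((tilde.functor R).obj K) :=
    Groth.Agent.Lib.Helper13.ModSiteTensor.hasSheafHom (Spec R).sheaf _
  obtain ⟨e⟩ := nonempty_restrict_extSh_iso_of_isWeaklyRegular hV G F rs hkill hreg
  let e4 := (moduleSpecΓFunctor (R := R)).mapIso e ≪≫ (asIso (thetaMod K N)).symm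
  exact ⟨(QCTilde.chartSectionsEquiv hV H).symm.trans e4.toLinearEquiv⟩

/-- on such a chart `ℰxt^c(G, F)` is quasi-coherent, if `G(V)` is finitely presented. -/
theorem isQuasicoherent_restrict_extSh_of_isWeaklyRegular {V : X.Opens}
    (hV : IsAffineOpen V) (G F : X.Modules) [G.IsQuasicoherent] [F.IsQuasicoherent]
    [ModSite.HasSheafHom (O := X.sheaf) G] [HasInjectiveResolutions (ModSite.Mod X.sheaf)]
    (rs : List Γ(X, V)) (hkill : ∀ r ∈ rs, ∀ g : Γ(G, V), r • g = 0)
    (hreg : RingTheory.Sequence.IsWeaklyRegular Γ(F, V) rs)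
    [Module.FinitePresentation Γ(X, V) Γ(G, V)] :
    (Scheme.Modules.restrict (Y := X)
      ((ModSite.extSh (O := X.sheaf) G rs.length).obj F) hV.fromSpec).IsQuasicoherent := by
  let R : CommRingCat.{u} := Γ(X, V)
  let K : ModuleCat.{u} R := ModuleCat.of R Γ(G, V)
  let N : ModuleCat.{u} R :=
    ModuleCat.of R (Γ(F, V) ⧸ (Ideal.ofList rs • ⊤ : Submodule Γ(X, V) Γ(F, V)))
  haveI hsh : ModSite.HasSheafHom (O := (Spec R).sheaf) ((tilde.functor R).obj K) :=
    Groth.Agent.Lib.Helper13.ModSiteTensor.hasSheafHom (Spec R).sheaf _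
  obtain ⟨e⟩ := nonempty_restrict_extSh_iso_of_isWeaklyRegular hV G F rs hkill hreg
  haveI : Module.FinitePresentation R K := ‹Module.FinitePresentation Γ(X, V) Γ(G, V)›
  have hq := isQuasicoherent_sheafHom_tilde K ((tilde.functor R).obj N)
    (inferInstance : ((tilde.functor R).obj N).IsQuasicoherent)
  exact isQuasicoherent_of_iso e.symm hq

end Groth.Agent.Lib.Helper2.RegExt
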