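import Groth.Agent.Lib.Helper2.RegExt.Chart
import Groth.Agent.Lib.Helper2.RegExt.Alg
import Groth.Agent.Lib.Helper3.QCPush
import Groth.Agent.Lib.Helper3.QCOpen

/-!
# `ℰxt^c(ι_* O_X, F)` over an affine open on which the ideal of `X` is generated by a regular
sequence of length `c` (helper2)
-/

set_option autoImplicit false
set_option linter.style.haveILetI false
universe u
open CategoryTheory CategoryTheory.Limits AlgebraicGeometry TopologicalSpace Opposite
open Scheme.Modules

noncomputable section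

namespace Groth.Agent.Lib.Helper2.RegExt

open Groth.Agent.Lib.Helper3

variable {X P : Scheme.{u}} (ι : X ⟶ P) [IsClosedImmersion ι]

instance isQuasicoherent_pushforward_structureModule :
    ((pushforward ι).obj (Coh.structureModule X)).IsQuasicoherent :=
  QCSec.isQuasicoherent_pushforward ι (Coh.structureModule X)

variable {U : P.Opens}

/-- the unit section of `ι_* O_X` over `U`. -/
def oneSec (U : P.Opens) : Γ((pushforward ι).obj (Coh.structureModule X), U) :=
  (1 : Γ(X, ι ⁻¹ᵁ U))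

theorem smul_oneSec (a : Γ(P, U)) :
    a • oneSec ι U = (show Γ((pushforward ι).obj (Coh.structureModule X), U) from
      (ι.app U a : Γ(X, ι ⁻¹ᵁ U))) := by
  refine (QCSec.pushforward_smul ι (Coh.structureModule X) U a (oneSec ι U)).trans ?_
  exact mul_one (ι.app U a : Γ(X, ι ⁻¹ᵁ U))

theorem exists_smul_oneSec (hU : IsAffineOpen U) (b : Γ((pushforward ι).obj (Coh.structureModule X), U)) :
    ∃ a : Γ(P, U), a • oneSec ι U = b := by
  obtain ⟨a, ha⟩ := ι.app_surjective U hU (show Γ(X, ι ⁻¹ᵁ U) from b)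
  exact ⟨a, (smul_oneSec ι a).trans ha⟩

theorem smul_pushforward_eq_zero_of_mem_ker (a : Γ(P, U))
    (ha : a ∈ RingHom.ker (ι.app U).hom) (F : X.Modules)
    (g : Γ((pushforward ι).obj F, U)) : a • g = 0 := by
  refine (QCSec.pushforward_smul ι F U a g).trans ?_
  have h0 : (ι.app U a : Γ(X, ι ⁻¹ᵁ U)) = 0 := ha
  rw [h0]
  exact zero_smul Γ(X, ι ⁻¹ᵁ U) (show Γ(F, ι ⁻¹ᵁ U) from g)

theorem mem_ker_of_smul_oneSec_eq_zero (a : Γ(P, U)) (ha : a • oneSec ι U = 0) :
    a ∈ RingHom.ker (ι.app U).hom := by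
  rw [smul_oneSec] at ha
  exact ha

/-- **`Γ(U, ℰxt^c(ι_* O_X, F)) ≃ F(U)/I F(U)`** when the ideal `I` of `X` in the affine open `U`
is generated by a weakly `F(U)`-regular sequence of length `c`. -/
theorem nonempty_sections_extSh_pushforward_linearEquiv (hU : IsAffineOpen U)
    (F : P.Modules) [F.IsQuasicoherent]
    [ModSite.HasSheafHom (O := P.sheaf) ((pushforward ι).obj (Coh.structureModule X))]
    [HasInjectiveResolutions (ModSite.Mod P.sheaf)]
    (rs : List Γ(P, U)) (hker : RingHom.ker (ι.app U).hom = Ideal.ofList rs)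
    (hreg : RingTheory.Sequence.IsWeaklyRegular Γ(F, U) rs) :
    Nonempty (Γ(((ModSite.extSh (O := P.sheaf)
        ((pushforward ι).obj (Coh.structureModule X)) rs.length).obj F : P.Modules), U)
      ≃ₗ[Γ(P, U)] (Γ(F, U) ⧸ (Ideal.ofList rs • ⊤ : Submodule Γ(P, U) Γ(F, U)))) := by
  have hkill : ∀ r ∈ rs, ∀ g : Γ((pushforward ι).obj (Coh.structureModule X), U), r • g = 0 := by
    intro r hr g
    refine smul_pushforward_eq_zero_of_mem_ker ι r ?_ _ g
    rw [hker]
    exact Ideal.subset_span hr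
  obtain ⟨e⟩ := nonempty_sections_extSh_linearEquiv_of_isWeaklyRegular hU
    ((pushforward ι).obj (Coh.structureModule X)) F rs hkill hreg
  have hN : ∀ a : Γ(P, U), a • oneSec ι U = 0 →
      ∀ n : (Γ(F, U) ⧸ (Ideal.ofList rs • ⊤ : Submodule Γ(P, U) Γ(F, U))), a • n = 0 := by
    intro a ha n
    have hmem : a ∈ Ideal.ofList rs := by
      rw [← hker]
      exact mem_ker_of_smul_oneSec_eq_zero ι a ha
    obtain ⟨m, rfl⟩ := Submodule.Quotient.mk_surjective _ n
    rw [← Submodule.Quotient.mk_smul, Submodule.Quotient.mk_eq_zero]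
    exact Submodule.smul_mem_smul hmem Submodule.mem_top
  exact ⟨(e.trans ModuleCat.homLinearEquiv).trans
    (cyclicHomEquiv (oneSec ι U) (exists_smul_oneSec ι hU) hN)⟩

end Groth.Agent.Lib.Helper2.RegExt
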