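import Groth.Agent.Lib.Helper5.RegImm
import Groth.Agent.Lib.Helper26.RegularNormal

/-!
# Spreading out a regular sequence generating the ideal of a closed immersion at a point (helper2)

Variants of `Helper5.RegImm.exists_regular_chart_of_stalk` keeping track of the length of the
sequence and of a prescribed open neighbourhood.
-/

set_option autoImplicit false
universe u

open CategoryTheory AlgebraicGeometry TopologicalSpace RingTheory.Sequence

namespace Groth.Agent.Lib.Helper2.RegExt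

open Groth.Agent.Lib.Helper5

variable {X Y : Scheme.{u}} [IsLocallyNoetherian X] (j : Y ⟶ X) [IsClosedImmersion j]

/-- `Helper5.RegImm.exists_regular_chart_of_stalk`, inside a given open neighbourhood and with the
length of the sequence. -/
theorem exists_regular_chart_of_stalk' (y : Y) (W : X.Opens) (hyW : j y ∈ W)
    (rsS : List (X.presheaf.stalk (j y)))
    (hrsS : IsWeaklyRegular (X.presheaf.stalk (j y)) rsS)
    (hJrs : RingHom.ker (j.stalkMap y).hom = Ideal.ofList rsS) :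
    ∃ (U : X.Opens) (hU : IsAffineOpen U) (h : Γ(X, U)) (rsA : List Γ(X, U)),
      U ≤ W ∧ rsA.length = rsS.length ∧
      j y ∈ X.basicOpen h ∧ (∀ a ∈ rsA, a ∈ j.ker.ideal ⟨U, hU⟩) ∧
      (∀ z ∈ j.ker.ideal ⟨U, hU⟩, h * z ∈ Ideal.ofList rsA) ∧
      ∀ (i : ℕ) (hi : i < rsA.length), ∀ z : Γ(X, U),
        rsA[i] * z ∈ Ideal.ofList (rsA.take i) → h * z ∈ Ideal.ofList (rsA.take i) := by
  classical
  obtain ⟨_, ⟨U, hU0, rfl⟩, hyU, hUW⟩ :=
    X.isBasis_affineOpens.exists_subset_of_mem_open hyW W.2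
  have hU : IsAffineOpen U := hU0
  haveI : IsNoetherianRing Γ(X, U) := IsLocallyNoetherian.component_noetherian ⟨U, hU⟩
  letI alg := X.presheaf.algebra_section_stalk ⟨j y, hyU⟩
  have loc := hU.isLocalization_stalk ⟨j y, hyU⟩
  have hpprime : (hU.primeIdealOf ⟨j y, hyU⟩).asIdeal.IsPrime :=
    (hU.primeIdealOf ⟨j y, hyU⟩).isPrime
  have hI : j.ker.ideal ⟨U, hU⟩ = RingHom.ker (j.app U).hom := Scheme.Hom.ker_apply j ⟨U, hU⟩
  have hJ : RingHom.ker (j.stalkMap y).hom =
      (j.ker.ideal ⟨U, hU⟩).map (algebraMap Γ(X, U) (X.presheaf.stalk (j y))) := by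
    rw [hI]
    exact StalkKer.ker_stalkMap_eq_map_ker j hU y hyU
  have hrep : ∀ s : X.presheaf.stalk (j y), ∃ a : Γ(X, U),
      s ∈ RingHom.ker (j.stalkMap y).hom → a ∈ j.ker.ideal ⟨U, hU⟩ ∧
        ∃ u : (X.presheaf.stalk (j y))ˣ,
          algebraMap Γ(X, U) (X.presheaf.stalk (j y)) a = s * u := by
    intro s
    by_cases hs : s ∈ RingHom.ker (j.stalkMap y).hom
    · have hs' := hs
      rw [hJ, IsLocalization.mem_map_algebraMap_iff
        (hU.primeIdealOf ⟨j y, hyU⟩).asIdeal.primeCompl] at hs'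
      obtain ⟨⟨a, σ⟩, hσ⟩ := hs'
      refine ⟨a.1, fun _ => ⟨a.2, (IsLocalization.map_units (X.presheaf.stalk (j y)) σ).unit, ?_⟩⟩
      exact hσ.symm
    · exact ⟨0, fun h => absurd h hs⟩
  choose c hc using hrep
  have hφ : ∀ s ∈ rsS, ∃ u : (X.presheaf.stalk (j y))ˣ,
      (fun s => algebraMap Γ(X, U) (X.presheaf.stalk (j y)) (c s)) s = s * u := by
    intro s hs
    exact (hc s (hJrs ▸ Ideal.subset_span hs)).2
  have hmapmap : (rsS.map c).map (algebraMap Γ(X, U) (X.presheaf.stalk (j y))) =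
      rsS.map (fun s => algebraMap Γ(X, U) (X.presheaf.stalk (j y)) (c s)) := by
    rw [List.map_map]; rfl
  have hregA : IsWeaklyRegular (X.presheaf.stalk (j y))
      ((rsS.map c).map (algebraMap Γ(X, U) (X.presheaf.stalk (j y)))) := by
    rw [hmapmap]
    exact RegSeq.isWeaklyRegular_map_unit rsS _ hφ hrsS
  have hofA : (Ideal.ofList (rsS.map c)).map (algebraMap Γ(X, U) (X.presheaf.stalk (j y))) =
      RingHom.ker (j.stalkMap y).hom := by
    rw [Ideal.map_ofList, hmapmap, RegSeq.ofList_map_unit rsS _ hφ, hJrs]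
  have hmemA : ∀ a ∈ rsS.map c, a ∈ j.ker.ideal ⟨U, hU⟩ := by
    intro a ha
    obtain ⟨s, hs, rfl⟩ := List.mem_map.mp ha
    exact (hc s (hJrs ▸ Ideal.subset_span hs)).1
  obtain ⟨h₂, hh₂, hcol⟩ := RegSeq.exists_notMem_forall_colon (S := X.presheaf.stalk (j y))
    (hU.primeIdealOf ⟨j y, hyU⟩).asIdeal (rsS.map c) hregA
  obtain ⟨h₃, hh₃, hmul⟩ := RegSeq.exists_notMem_forall_mul_mem (S := X.presheaf.stalk (j y))
    (hU.primeIdealOf ⟨j y, hyU⟩).asIdeal (j.ker.ideal ⟨U, hU⟩) (Ideal.ofList (rsS.map c))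
    (IsNoetherian.noetherian _) (by
      intro z hz
      rw [hofA, hJ]
      exact Ideal.mem_map_of_mem _ hz)
  refine ⟨U, hU, h₂ * h₃, rsS.map c, hUW, List.length_map _, ?_, hmemA, ?_, ?_⟩
  · rw [Scheme.mem_basicOpen _ _ _ hyU]
    have hnot : h₂ * h₃ ∉ (hU.primeIdealOf ⟨j y, hyU⟩).asIdeal :=
      fun h => (hpprime.mem_or_mem h).elim hh₂ hh₃
    exact IsLocalization.map_units (X.presheaf.stalk (j y))
      (⟨_, hnot⟩ : (hU.primeIdealOf ⟨j y, hyU⟩).asIdeal.primeCompl)
  · intro z hz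
    rw [mul_assoc]
    exact Ideal.mul_mem_left _ _ (hmul z hz)
  · intro i hi z hz
    rw [mul_comm h₂ h₃, mul_assoc]
    exact Ideal.mul_mem_left _ _ (hcol i hi z hz)

/-- **Spreading out**: if the kernel of the stalk map at `y` is generated by a weakly regular
sequence of length `c`, then inside any open neighbourhood `W` of `j y` there is an affine open
`V ∋ j y` on which the ideal of `j` is generated by a weakly regular sequence of length `c`. -/
theorem exists_affine_regular_of_stalk (y : Y) (W : X.Opens) (hyW : j y ∈ W)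
    (rsS : List (X.presheaf.stalk (j y)))
    (hrsS : IsWeaklyRegular (X.presheaf.stalk (j y)) rsS)
    (hJrs : RingHom.ker (j.stalkMap y).hom = Ideal.ofList rsS) :
    ∃ (V : X.Opens) (_ : IsAffineOpen V) (rs : List Γ(X, V)),
      j y ∈ V ∧ V ≤ W ∧ rs.length = rsS.length ∧ IsWeaklyRegular Γ(X, V) rs ∧
        RingHom.ker (j.app V).hom = Ideal.ofList rs := by
  obtain ⟨U, hU, h, rsA, hUW, hlen, hyh, hmemA, hmul, hcol⟩ :=
    exists_regular_chart_of_stalk' j y W hyW rsS hrsS hJrs
  have hV : IsAffineOpen (X.basicOpen h) := hU.basicOpen h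
  have hle : X.basicOpen h ≤ U := X.basicOpen_le h
  letI algB : Algebra Γ(X, U) Γ(X, X.basicOpen h) :=
    (X.presheaf.map (homOfLE hle).op).hom.toAlgebra
  haveI locB : IsLocalization.Away h Γ(X, X.basicOpen h) :=
    hU.isLocalization_of_eq_basicOpen h (homOfLE hle) rfl
  have hker : j.ker.ideal ⟨X.basicOpen h, hV⟩ =
      (j.ker.ideal ⟨U, hU⟩).map (algebraMap Γ(X, U) Γ(X, X.basicOpen h)) :=
    (j.ker.map_ideal (U := ⟨X.basicOpen h, hV⟩) (V := ⟨U, hU⟩) hle).symm
  have hgen : (j.ker.ideal ⟨U, hU⟩).map (algebraMap Γ(X, U) Γ(X, X.basicOpen h)) =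
      Ideal.ofList (rsA.map (algebraMap Γ(X, U) Γ(X, X.basicOpen h))) := by
    rw [← Ideal.map_ofList]
    apply le_antisymm
    · rw [Ideal.map_le_iff_le_comap]
      intro w hw
      exact RegSeq.algebraMap_mem_map_of_mul_mem h _ w (hmul w hw)
    · apply Ideal.map_mono
      rw [Ideal.ofList, Ideal.span_le]
      exact fun a ha => hmemA a ha
  have hwreg : IsWeaklyRegular Γ(X, X.basicOpen h)
      (rsA.map (algebraMap Γ(X, U) Γ(X, X.basicOpen h))) :=
    RegSeq.isWeaklyRegular_map_of_away h rsA hcol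
  have hkerapp : RingHom.ker (j.app (X.basicOpen h)).hom =
      Ideal.ofList (rsA.map (algebraMap Γ(X, U) Γ(X, X.basicOpen h))) :=
    (Scheme.Hom.ker_apply j ⟨X.basicOpen h, hV⟩).symm.trans (hker.trans hgen)
  exact ⟨X.basicOpen h, hV, rsA.map (algebraMap Γ(X, U) Γ(X, X.basicOpen h)), hyh,
    hle.trans hUW, (List.length_map _).trans hlen, hwreg, hkerapp⟩

/-- **At a point where `O_Y` is a field and `O_X` is regular of dimension `c`**, inside any open
neighbourhood there is an affine open on which the ideal of `j` is generated by a weakly regular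
sequence of length `c`. -/
theorem exists_affine_regular_of_isField (y : Y) (hy : IsField (Y.presheaf.stalk y))
    [IsRegularLocalRing (X.presheaf.stalk (j y))] (c : ℕ)
    (hc : ringKrullDim (X.presheaf.stalk (j y)) = c) (W : X.Opens) (hyW : j y ∈ W) :
    ∃ (V : X.Opens) (_ : IsAffineOpen V) (rs : List Γ(X, V)),
      j y ∈ V ∧ V ≤ W ∧ rs.length = c ∧ IsWeaklyRegular Γ(X, V) rs ∧
        RingHom.ker (j.app V).hom = Ideal.ofList rs := by
  obtain ⟨x, hx, hreg⟩ :=
    Groth.Agent.Lib.Helper26.RegularNormal.exists_isRegular_span_eq_maximalIdeal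
      (X.presheaf.stalk (j y)) hc
  letI : Field (Y.presheaf.stalk y) := hy.toField
  have hmax : (RingHom.ker (j.stalkMap y).hom).IsMaximal :=
    RingHom.ker_isMaximal_of_surjective _ (j.stalkMap_surjective y)
  have hker : RingHom.ker (j.stalkMap y).hom = Ideal.ofList (List.ofFn x) := by
    rw [IsLocalRing.eq_maximalIdeal hmax, ← hx, Ideal.ofList]
    congr 1
    ext a
    simp [List.mem_ofFn]
  obtain ⟨V, hV, rs, h1, h2, h3, h4, h5⟩ :=
    exists_affine_regular_of_stalk j y W hyW (List.ofFn x) hreg.toIsWeaklyRegular hker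
  exact ⟨V, hV, rs, h1, h2, h3.trans (List.length_ofFn), h4, h5⟩

end Groth.Agent.Lib.Helper2.RegExt
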