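import Groth.Agent.Lib.Helper2.RegExt.LocFree
import Groth.Agent.Lib.Helper2.RegExt.Spread
import Groth.Agent.Lib.Helper2.ExtShCoh.Coh
import Groth.Agent.Lib.Helper13.StalkPd
import Groth.Agent.Lib.Helper17.LocFreeRank
import Groth.Agent.Lib.Helper17.GenFreeSheaf
import Groth.Agent.S0019

/-!
# `ω` with `ι_* ω ≅ ℰxt^c(ι_* O_X, ω_P)` is free of rank one near the generic points where `X` is
reduced and `P` is regular of dimension `c` (helper2)
-/

set_option autoImplicit false
set_option linter.style.haveILetI false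
universe u
open CategoryTheory CategoryTheory.Limits AlgebraicGeometry TopologicalSpace Opposite
open Scheme.Modules

noncomputable section

namespace Groth.Agent.Lib.Helper2.RegExt

open Groth.Agent.Lib.Helper3 Groth.Agent.Lib.Helper2.ExtTilde Groth.Agent.Lib.Helper2.ExtShCoh

section Top

variable {T : Type*} [TopologicalSpace T] [T0Space T]

/-- a generic point of an irreducible component has no proper generization. -/
theorem eq_of_specializes_of_mem_irreducibleComponents (z : T)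
    (hz : closure ({z} : Set T) ∈ irreducibleComponents T) (y : T) (hy : y ⤳ z) : y = z := by
  have h1 : closure ({z} : Set T) ⊆ closure {y} :=
    closure_minimal (Set.singleton_subset_iff.mpr (specializes_iff_mem_closure.mp hy))
      isClosed_closure
  have h2 : closure ({y} : Set T) ⊆ closure {z} :=
    hz.2 isIrreducible_singleton.closure h1
  have h3 : z ⤳ y := by
    rw [specializes_iff_mem_closure]
    exact h2 (subset_closure rfl)
  exact (hy.antisymm h3).eq

end Top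

variable {X P : Scheme.{u}}

/-- the local ring at a generic point of an irreducible component is a field, if reduced. -/
theorem isField_stalk_of_generic (z : X)
    (hz : closure ({z} : Set ↥X) ∈ irreducibleComponents ↥X)
    [_root_.IsReduced (X.presheaf.stalk z)] : IsField (X.presheaf.stalk z) := by
  rw [IsLocalRing.isField_iff_maximalIdeal_eq, eq_bot_iff]
  intro a ha
  have hnil : IsNilpotent a := by
    rw [nilpotent_iff_mem_prime]
    intro q hq
    have hq' : q = IsLocalRing.maximalIdeal (X.presheaf.stalk z) := by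
      let Q : PrimeSpectrum (X.presheaf.stalk z) := ⟨q, hq⟩
      have hy : X.fromSpecStalk z Q ⤳ z := by
        have h0 : X.fromSpecStalk z Q ∈ Set.range (X.fromSpecStalk z) := ⟨Q, rfl⟩
        rw [Scheme.range_fromSpecStalk] at h0
        exact h0
      have h1 := eq_of_specializes_of_mem_irreducibleComponents z hz _ hy
      have h2 : X.fromSpecStalk z (IsLocalRing.closedPoint (X.presheaf.stalk z)) = z :=
        Scheme.fromSpecStalk_closedPoint
      have h3 : Q = IsLocalRing.closedPoint (X.presheaf.stalk z) :=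
        (X.fromSpecStalk z).isEmbedding.injective (h1.trans h2.symm)
      exact congrArg PrimeSpectrum.asIdeal h3
    rw [hq']
    exact ha
  rw [_root_.IsReduced.eq_zero a hnil]
  exact Submodule.zero_mem _

/-- an open subset containing all the generic points of the irreducible components is dense. -/
theorem dense_of_forall_generic_mem (U : X.Opens)
    (h : ∀ x : X, closure ({x} : Set ↥X) ∈ irreducibleComponents ↥X → x ∈ U) :
    Dense (U : Set ↥X) := by
  rw [dense_iff_inter_open]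
  intro O hO hne
  obtain ⟨w, hw⟩ := hne
  have hZ : irreducibleComponent w ∈ irreducibleComponents ↥X :=
    irreducibleComponent_mem_irreducibleComponents w
  have hirr : IsIrreducible (irreducibleComponent w) := isIrreducible_irreducibleComponent
  have hcl : IsClosed (irreducibleComponent w) := isClosed_irreducibleComponent
  obtain ⟨ξ, hξ⟩ := QuasiSober.sober hirr hcl
  have hξcl : closure ({ξ} : Set ↥X) = irreducibleComponent w := hξ
  have hξU : ξ ∈ U := h ξ (hξcl ▸ hZ)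
  have hξO : ξ ∈ O := by
    have hwcl : w ∈ closure ({ξ} : Set ↥X) := hξcl ▸ mem_irreducibleComponent
    have hsp : ξ ⤳ w := specializes_iff_mem_closure.mpr hwcl
    exact hsp.mem_open hO hw
  exact ⟨ξ, hξO, hξU⟩

variable [IsLocallyNoetherian P] (ι : X ⟶ P) [IsClosedImmersion ι]
  [ModSite.HasSheafHom (O := P.sheaf) ((pushforward ι).obj (Coh.structureModule X))]
  [HasInjectiveResolutions (ModSite.Mod P.sheaf)]

/-- `ℰxt^c(ι_* O_X, ω_P)` is coherent. -/
theorem isCoh_extSh_pushforward (c : ℕ) (ωP : P.Modules) (hωP : FlatMod.IsFinLocFree ωP) :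
    Coh.IsCoh ((ModSite.extSh (O := P.sheaf)
      ((pushforward ι).obj (Coh.structureModule X)) c).obj ωP : P.Modules) :=
  isCoh_extSh c P _ ωP (Groth.Agent.S0019.result ι _ (isCoh_unit X))
    (Groth.Agent.Lib.Helper13.StalkPd.coh_of_lf hωP)

/-- a module `ω` with `ι_* ω ≅ ℰxt^c(ι_* O_X, ω_P)` is quasi-coherent. -/
theorem isQuasicoherent_of_pushforward_iso_extSh (c : ℕ) (ωP : P.Modules)
    (hωP : FlatMod.IsFinLocFree ωP) (ω : X.Modules)
    (e : (pushforward ι).obj ω ≅ (ModSite.extSh (O := P.sheaf)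
      ((pushforward ι).obj (Coh.structureModule X)) c).obj ωP) : ω.IsQuasicoherent :=
  isQuasicoherent_of_pushforward ι ω
    (isQuasicoherent_of_iso e.symm (isCoh_extSh_pushforward ι c ωP hωP).1)

/-- **Near a point `x` where `O_X` is a field and `O_P` is regular of dimension `c`**, a module `ω`
with `ι_* ω ≅ ℰxt^c(ι_* O_X, ω_P)`, `ω_P` invertible, has a basis of one section over an affine
open neighbourhood `ι⁻¹ V` of `x`. -/
theorem exists_basis_sections_of_isField (c : ℕ) (ωP : P.Modules)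
    (hωP : FlatMod.IsFinLocFreeOfRank 1 ωP) (ω : X.Modules)
    (e : (pushforward ι).obj ω ≅ (ModSite.extSh (O := P.sheaf)
      ((pushforward ι).obj (Coh.structureModule X)) c).obj ωP)
    (x : X) (hx : IsField (X.presheaf.stalk x))
    [IsRegularLocalRing (P.presheaf.stalk (ι x))]
    (hc : ringKrullDim (P.presheaf.stalk (ι x)) = c) :
    ∃ (V : P.Opens) (_ : IsAffineOpen V), ι x ∈ V ∧
      Nonempty (Module.Basis (Fin 1) Γ(X, ι ⁻¹ᵁ V) Γ(ω, ι ⁻¹ᵁ V)) := by
  have hlf : FlatMod.IsFinLocFree ωP :=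
    Groth.Agent.Lib.Helper17.LocFreeRank.isFinLocFree_of_rank hωP
  haveI : ωP.IsQuasicoherent := LocFreeCrit.isQuasicoherent_of_isFinLocFree hlf
  obtain ⟨W, eW, hxW, hb⟩ := FreeBasis.isFinLocFreeOfRank_iff.mp hωP (ι x)
  obtain ⟨V, hV, rs, hxV, hVW, hlen, hreg, hker⟩ :=
    exists_affine_regular_of_isField ι x hx c hc W hxW
  refine ⟨V, hV, hxV, ?_⟩
  let bW : Module.Basis (Fin 1) Γ(P, V) Γ(ωP, V) :=
    NormAlg.basisOfBijective _ (hb.mono hVW).self
  letI : Algebra Γ(P, V) Γ(X, ι ⁻¹ᵁ V) := (ι.app V).hom.toAlgebra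
  letI : Module Γ(P, V) Γ(ω, ι ⁻¹ᵁ V) :=
    inferInstanceAs (Module Γ(P, V) Γ((pushforward ι).obj ω, V))
  haveI : IsScalarTower Γ(P, V) Γ(X, ι ⁻¹ᵁ V) Γ(ω, ι ⁻¹ᵁ V) := ⟨fun a b q => by
    change ((ι.app V a : Γ(X, ι ⁻¹ᵁ V)) * b) • q = (ι.app V a : Γ(X, ι ⁻¹ᵁ V)) • (b • q)
    rw [mul_smul]⟩
  have hAB : Function.Surjective (algebraMap Γ(P, V) Γ(X, ι ⁻¹ᵁ V)) :=
    ι.app_surjective V hV
  have e1 := nonempty_sections_extSh_pushforward_linearEquiv ι hV ωP rs hker
    (isWeaklyRegular_sections_of_isFinLocFree hlf hV rs hreg)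
  rw [hlen] at e1
  obtain ⟨e1⟩ := e1
  let e2 : Γ(ω, ι ⁻¹ᵁ V) ≃ₗ[Γ(P, V)] Γ(((ModSite.extSh (O := P.sheaf)
      ((pushforward ι).obj (Coh.structureModule X)) c).obj ωP : P.Modules), V) :=
    sectionsLinearEquiv e V
  have hkerAlg : RingHom.ker (algebraMap Γ(P, V) Γ(X, ι ⁻¹ᵁ V)) = Ideal.ofList rs := hker
  let e3 : (Γ(ωP, V) ⧸ (Ideal.ofList rs • ⊤ : Submodule Γ(P, V) Γ(ωP, V))) ≃ₗ[Γ(P, V)]
      (Γ(ωP, V) ⧸ (RingHom.ker (algebraMap Γ(P, V) Γ(X, ι ⁻¹ᵁ V)) • ⊤ :
        Submodule Γ(P, V) Γ(ωP, V))) :=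
    Submodule.quotEquivOfEq _ _ (by rw [hkerAlg])
  exact nonempty_basis_of_equiv_quot hAB bW ((e2.trans e1).trans e3)

/-- **Generic local freeness of rank one** of a module `ω` with
`ι_* ω ≅ ℰxt^c(ι_* O_X, ω_P)`. -/
theorem exists_dense_open_isFinLocFreeOfRank_one
    (hreg : ∀ p : P, IsRegularLocalRing (P.presheaf.stalk p)) (c : ℕ)
    (hcodim : ∀ x : X, closure ({x} : Set ↥X) ∈ irreducibleComponents ↥X →
      ringKrullDim (P.presheaf.stalk (ι x)) = (c : WithBot ℕ∞))
    (hred : ∀ x : X, closure ({x} : Set ↥X) ∈ irreducibleComponents ↥X →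
      _root_.IsReduced (X.presheaf.stalk x))
    (ωP : P.Modules) (hωP : FlatMod.IsFinLocFreeOfRank 1 ωP) (ω : X.Modules)
    (e : (pushforward ι).obj ω ≅ (ModSite.extSh (O := P.sheaf)
      ((pushforward ι).obj (Coh.structureModule X)) c).obj ωP) :
    ∃ U : X.Opens, Dense (U : Set ↥X) ∧ FlatMod.IsFinLocFreeOfRank 1 (ω.restrict U.ι) := by
  have hlf : FlatMod.IsFinLocFree ωP :=
    Groth.Agent.Lib.Helper17.LocFreeRank.isFinLocFree_of_rank hωP
  haveI : ω.IsQuasicoherent := isQuasicoherent_of_pushforward_iso_extSh ι c ωP hlf ω e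
  have key : ∀ x : X, closure ({x} : Set ↥X) ∈ irreducibleComponents ↥X →
      ∃ (V : P.Opens) (_ : IsAffineOpen V), ι x ∈ V ∧
        Nonempty (Module.Basis (Fin 1) Γ(X, ι ⁻¹ᵁ V) Γ(ω, ι ⁻¹ᵁ V)) := fun x hx => by
    haveI := hred x hx
    haveI := hreg (ι x)
    exact exists_basis_sections_of_isField ι c ωP hωP ω e x (isField_stalk_of_generic x hx)
      (hcodim x hx)
  choose V hV hxV hb using key
  let U : X.Opens := ⨆ x : {x : X // closure ({x} : Set ↥X) ∈ irreducibleComponents ↥X},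
    ι ⁻¹ᵁ V x.1 x.2
  refine ⟨U, dense_of_forall_generic_mem U
    (fun x hx => Opens.mem_iSup.mpr ⟨⟨x, hx⟩, hxV x hx⟩), ?_⟩
  rw [FreeBasis.isFinLocFreeOfRank_iff]
  intro y'
  have hy : U.ι y' ∈ U := by
    have h1 : U.ι y' ∈ Set.range U.ι := Set.mem_range_self y'
    rw [Scheme.Opens.range_ι U] at h1
    exact h1
  obtain ⟨⟨x, hx⟩, hyx⟩ := Opens.mem_iSup.mp hy
  obtain ⟨b⟩ := hb x hx
  have hW : IsAffineOpen (ι ⁻¹ᵁ V x hx) := (hV x hx).preimage ι
  have hB : FreeBasis.IsBasis ω (ι ⁻¹ᵁ V x hx) (fun i => b i) :=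
    SecLoc.isBasis_of_isBasisAt ω hW (SecLoc.isBasisAt_of_basis ω _ b)
  have hWU : ι ⁻¹ᵁ V x hx ≤ U :=
    le_iSup (fun x : {x : X // closure ({x} : Set ↥X) ∈ irreducibleComponents ↥X} =>
      ι ⁻¹ᵁ V x.1 x.2) ⟨x, hx⟩
  exact ⟨U.ι ⁻¹ᵁ (ι ⁻¹ᵁ V x hx), _, hyx, LocFreeCrit.isBasis_restrict_of_isBasis ω U hWU hB⟩

end Groth.Agent.Lib.Helper2.RegExt
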