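import Groth.Agent.Lib.Helper2.RegExt.Closed
import Groth.Agent.Lib.Helper2.ExtVan.RegImm
import Groth.Agent.Lib.Helper2.ShriekExt.ChangeRings
import Groth.Agent.Lib.Helper17.PbStalk
import Groth.Agent.Lib.Helper3.LocFreeCrit
import Groth.Agent.Lib.Helper2.ExtTilde.HomDepth

/-!
# `ℰxt^c(ι_* O_X, ω_P)` is `ι_*` of a finite locally free module, for a regular immersion of
codimension `c` (helper2)
-/

set_option autoImplicit false
set_option linter.style.haveILetI false
universe u
open CategoryTheory CategoryTheory.Limits AlgebraicGeometry TopologicalSpace Opposite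
open Scheme.Modules

noncomputable section

namespace Groth.Agent.Lib.Helper2.RegExt

open Groth.Agent.Lib.Helper3 Groth.Agent.Lib.Helper2.ExtTilde Groth.Agent.Lib.Helper2.ExtShCoh
open Groth.Agent.Lib.Helper2.ExtDepth Groth.Agent.Lib.Helper2.ExtVan

variable {X P : Scheme.{u}} (ι : X ⟶ P) [IsClosedImmersion ι]

/-- a module on `X` whose direct image is quasi-coherent is quasi-coherent. -/
theorem isQuasicoherent_of_pushforward (E : X.Modules)
    (h : ((pushforward ι).obj E).IsQuasicoherent) : E.IsQuasicoherent := by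
  haveI := h
  have hq : ((Scheme.Modules.pullback ι).obj ((pushforward ι).obj E)).IsQuasicoherent :=
    Groth.Agent.Lib.Helper17.PbStalk.isQuasicoherent_pullback ι _
  exact isQuasicoherent_of_iso (asIso ((pullbackPushforwardAdjunction ι).counit.app E)) hq

/-- sections of `ι_* O_X` over an affine open are finitely presented when the kernel is finitely
generated. -/
theorem finitePresentation_sections_pushforward_structureModule {U : P.Opens}
    (hU : IsAffineOpen U) (hfg : (RingHom.ker (ι.app U).hom).FG) :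
    Module.FinitePresentation Γ(P, U) Γ((pushforward ι).obj (Coh.structureModule X), U) := by
  let l : Γ(P, U) →ₗ[Γ(P, U)] Γ((pushforward ι).obj (Coh.structureModule X), U) :=
    LinearMap.toSpanSingleton _ _ (oneSec ι U)
  have hl : Function.Surjective l := fun b => by
    obtain ⟨a, ha⟩ := exists_smul_oneSec ι hU b
    exact ⟨a, ha⟩
  have hker : LinearMap.ker l = (RingHom.ker (ι.app U).hom).restrictScalars Γ(P, U) := by
    ext a
    rw [LinearMap.mem_ker]
    constructor
    · intro ha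
      have ha' : a • oneSec ι U = 0 := ha
      exact mem_ker_of_smul_oneSec_eq_zero ι a ha'
    · intro ha
      exact smul_pushforward_eq_zero_of_mem_ker ι a ha _ _
  refine Module.finitePresentation_of_surjective l hl ?_
  rw [hker]
  exact hfg

/-- the weak regularity of a regular sequence on the sections of a finite locally free module. -/
theorem isWeaklyRegular_sections_of_isFinLocFree {E : P.Modules} (hE : FlatMod.IsFinLocFree E)
    {U : P.Opens} (hU : IsAffineOpen U) (rs : List Γ(P, U))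
    (hreg : RingTheory.Sequence.IsWeaklyRegular Γ(P, U) rs) :
    RingTheory.Sequence.IsWeaklyRegular Γ(E, U) rs := by
  obtain ⟨hfin, hproj⟩ := LocFreeCrit.finite_projective_sections hE hU
  haveI : Module.Flat Γ(P, U) Γ(E, U) := inferInstance
  exact ((TensorProduct.lid Γ(P, U) Γ(E, U)).isWeaklyRegular_congr rs).mp
    (hreg.isWeaklyRegular_rTensor (M₂ := Γ(E, U)))

variable [ModSite.HasSheafHom (O := P.sheaf) ((pushforward ι).obj (Coh.structureModule X))]
  [HasInjectiveResolutions (ModSite.Mod P.sheaf)]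

/-- quasi-coherence of `ℰxt^c(ι_* O_X, ω_P)` for a regular immersion of codimension `c`. -/
theorem isQuasicoherent_extSh_pushforward_of_regularImmersion (c : ℕ)
    (hι : RegImm.IsRegularImmersionOfCodim RegImm.Kind.regular c ι) (ωP : P.Modules)
    (hωP : FlatMod.IsFinLocFree ωP) :
    ((ModSite.extSh (O := P.sheaf) ((pushforward ι).obj (Coh.structureModule X)) c).obj
      ωP : P.Modules).IsQuasicoherent := by
  haveI : ωP.IsQuasicoherent := LocFreeCrit.isQuasicoherent_of_isFinLocFree hωP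
  apply QCProps.isQuasicoherent_of_charts
  intro x
  by_cases hx : x ∈ Set.range ι
  · obtain ⟨z, rfl⟩ := hx
    obtain ⟨U, hzU, -, rs, hlen, hseq, hker⟩ := hι.2 z
    have hreg : RingTheory.Sequence.IsRegular Γ(P, U.1) rs := hseq
    refine ⟨U.1, U.2, hzU, ?_⟩
    haveI := finitePresentation_sections_pushforward_structureModule ι U.2 (by
      classical
      rw [hker]
      exact ⟨rs.toFinset, by rw [Ideal.ofList, List.coe_toFinset]⟩)
    have hkill : ∀ r ∈ rs, ∀ g : Γ((pushforward ι).obj (Coh.structureModule X), U.1),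
        r • g = 0 := by
      intro r hr g
      refine smul_pushforward_eq_zero_of_mem_ker ι r ?_ _ g
      rw [hker]
      exact Ideal.subset_span hr
    have h := isQuasicoherent_restrict_extSh_of_isWeaklyRegular U.2
      ((pushforward ι).obj (Coh.structureModule X)) ωP rs hkill
      (isWeaklyRegular_sections_of_isFinLocFree hωP U.2 rs hreg.toIsWeaklyRegular)
    rw [hlen] at h
    exact h
  · have hopen : IsOpen (Set.range ι)ᶜ := ι.isClosedEmbedding.isClosed_range.isOpen_compl
    obtain ⟨_, ⟨V, hV : IsAffineOpen V, rfl⟩, hxV, hVsub⟩ :=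
      P.isBasis_affineOpens.exists_subset_of_mem_open hx hopen
    refine ⟨V, hV, hxV, ?_⟩
    have hz : IsZero ((ModSite.extSh (O := (Spec Γ(P, V)).sheaf)
        (((pushforward ι).obj (Coh.structureModule X)).restrict hV.fromSpec) c).obj
        (ωP.restrict hV.fromSpec)) :=
      isZero_extSh_of_isZero _
        (isZero_restrict_pushforward_of_disjoint ι (Coh.structureModule X) hV
          (fun y hy => hVsub hy ⟨y, rfl⟩)) c _
    exact isQuasicoherent_of_iso (extShChartIso hV _ ωP c).symm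
      (QCOpen.isQuasicoherent_of_isZero hz)

/-- **`ℰxt^c(ι_* O_X, ω_P) ≅ ι_* E` with `E` finite locally free**, for a regular closed
immersion of codimension `c` and `ω_P` finite locally free. -/
theorem exists_isFinLocFree_pushforward_iso_extSh (c : ℕ)
    (hι : RegImm.IsRegularImmersionOfCodim RegImm.Kind.regular c ι) (ωP : P.Modules)
    (hωP : FlatMod.IsFinLocFree ωP) :
    ∃ E : X.Modules, FlatMod.IsFinLocFree E ∧
      Nonempty ((pushforward ι).obj E ≅ (ModSite.extSh (O := P.sheaf)
        ((pushforward ι).obj (Coh.structureModule X)) c).obj ωP) := by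
  haveI : HasInjectiveResolutions P.Modules := ‹HasInjectiveResolutions (ModSite.Mod P.sheaf)›
  let O : X.Modules := Coh.structureModule X
  haveI : ModSite.HasSheafHom (O := X.sheaf) O :=
    Groth.Agent.Lib.Helper13.ModSiteTensor.hasSheafHom X.sheaf O
  haveI : ModSite.HasSheafHom (O := P.sheaf) ((pushforward ι).obj O) :=
    ‹ModSite.HasSheafHom (O := P.sheaf) ((pushforward ι).obj (Coh.structureModule X))›
  let E : X.Modules := ((ShriekExt.shriekE ι O).rightDerived c).obj ωP
  let eE : (pushforward ι).obj E ≅ (ModSite.extSh (O := P.sheaf)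
      ((pushforward ι).obj (Coh.structureModule X)) c).obj ωP :=
    ShriekExt.pushRightDerivedShriekEIso ι O c ωP
  refine ⟨E, ?_, ⟨eE⟩⟩
  have hHq := isQuasicoherent_extSh_pushforward_of_regularImmersion ι c hι ωP hωP
  haveI : E.IsQuasicoherent :=
    isQuasicoherent_of_pushforward ι E (isQuasicoherent_of_iso eE.symm hHq)
  haveI : ωP.IsQuasicoherent := LocFreeCrit.isQuasicoherent_of_isFinLocFree hωP
  apply LocFreeCrit.isFinLocFree_of_forall_mem_freeLocus
  intro z
  obtain ⟨U, hzU, -, rs, hlen, hseq, hker⟩ := hι.2 z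
  have hreg : RingTheory.Sequence.IsRegular Γ(P, U.1) rs := hseq
  have hW : IsAffineOpen (ι ⁻¹ᵁ U.1) := U.2.preimage ι
  refine ⟨ι ⁻¹ᵁ U.1, hW, hzU, ?_⟩
  letI : Algebra Γ(P, U.1) Γ(X, ι ⁻¹ᵁ U.1) := (ι.app U.1).hom.toAlgebra
  letI : Module Γ(P, U.1) Γ(E, ι ⁻¹ᵁ U.1) :=
    inferInstanceAs (Module Γ(P, U.1) Γ((pushforward ι).obj E, U.1))
  haveI : IsScalarTower Γ(P, U.1) Γ(X, ι ⁻¹ᵁ U.1) Γ(E, ι ⁻¹ᵁ U.1) := ⟨fun a b q => by
    change ((ι.app U.1 a : Γ(X, ι ⁻¹ᵁ U.1)) * b) • q = (ι.app U.1 a : Γ(X, ι ⁻¹ᵁ U.1)) • (b • q)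
    rw [mul_smul]⟩
  have hAB : Function.Surjective (algebraMap Γ(P, U.1) Γ(X, ι ⁻¹ᵁ U.1)) :=
    ι.app_surjective U.1 U.2
  have e1 := nonempty_sections_extSh_pushforward_linearEquiv ι U.2 ωP rs hker
    (isWeaklyRegular_sections_of_isFinLocFree hωP U.2 rs hreg.toIsWeaklyRegular)
  rw [hlen] at e1
  obtain ⟨e1⟩ := e1
  let e2 : Γ(E, ι ⁻¹ᵁ U.1) ≃ₗ[Γ(P, U.1)] Γ(((ModSite.extSh (O := P.sheaf)
      ((pushforward ι).obj (Coh.structureModule X)) c).obj ωP : P.Modules), U.1) :=
    sectionsLinearEquiv eE U.1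
  have hkerAlg : RingHom.ker (algebraMap Γ(P, U.1) Γ(X, ι ⁻¹ᵁ U.1)) = Ideal.ofList rs := hker
  let e3 : (Γ(ωP, U.1) ⧸ (Ideal.ofList rs • ⊤ : Submodule Γ(P, U.1) Γ(ωP, U.1))) ≃ₗ[Γ(P, U.1)]
      (Γ(ωP, U.1) ⧸ (RingHom.ker (algebraMap Γ(P, U.1) Γ(X, ι ⁻¹ᵁ U.1)) • ⊤ :
        Submodule Γ(P, U.1) Γ(ωP, U.1))) :=
    Submodule.quotEquivOfEq _ _ (by rw [hkerAlg])
  obtain ⟨hfinW, hprojW⟩ := LocFreeCrit.finite_projective_sections hωP U.2
  obtain ⟨hfin, hproj⟩ := finite_projective_of_equiv_quot hAB ((e2.trans e1).trans e3)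
  haveI := hfin
  haveI := hproj
  haveI hfp : Module.FinitePresentation Γ(X, ι ⁻¹ᵁ U.1) Γ(E, ι ⁻¹ᵁ U.1) :=
    Module.finitePresentation_of_projective _ _
  refine ⟨hfp, ?_⟩
  rw [(Module.freeLocus_eq_univ_iff).mpr hproj]
  exact Set.mem_univ _

end Groth.Agent.Lib.Helper2.RegExt
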