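import Groth.Agent.Lib.Helper2.ExtVan.RegSeq
import Groth.Agent.Lib.Helper2.ExtTilde.Hom0

/-!
# `ℰxt^c(G, M~) ≅ ℰxt^0(G, (M/rsM)~)` for a weakly `M`-regular sequence `rs` of length `c`
killing `G` (helper2)

No finiteness or Noetherian hypotheses.
-/

set_option autoImplicit false
set_option linter.style.haveILetI false
universe v u v' u'
open CategoryTheory CategoryTheory.Limits AlgebraicGeometry TopologicalSpace Opposite
open Scheme.Modules

noncomputable section

namespace Groth.Agent.Lib.Helper2.RegExt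

section Abstract

variable {C : Type u} [Category.{v} C] [Abelian C] [EnoughInjectives C]
  {D : Type u'} [Category.{v'} D] [Abelian D] (T : C ⥤ D) [T.Additive]

/-- the connecting map `RⁿT(X₃) → Rⁿ⁺¹T(X₁)` is an isomorphism when `RⁿT(X₂) = 0` and
`Rⁿ⁺¹T` kills `X₁ → X₂`. -/
theorem nonempty_iso_delta (S : ShortComplex C) (hS : S.ShortExact) (n : ℕ)
    (hf : (T.rightDerived (n + 1)).map S.f = 0)
    (h2 : IsZero ((T.rightDerived n).obj S.X₂)) :
    Nonempty ((T.rightDerived n).obj S.X₃ ≅ (T.rightDerived (n + 1)).obj S.X₁) := by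
  obtain ⟨δ, z1, z2, z3, e1, e2, e3⟩ := RDBridge.rightDerived_les' T S hS n
  haveI : Epi δ := e3.epi_f hf
  haveI : Mono δ := e2.mono_g (h2.eq_of_src _ _)
  haveI : IsIso δ := isIso_of_mono_of_epi δ
  exact ⟨asIso δ⟩

end Abstract

open Groth.Agent.Lib.Helper2.ExtDepth Groth.Agent.Lib.Helper2.ExtVan
open Groth.Agent.Lib.Lead.HomExt Groth.Agent.Lib.Helper3.QCSec Groth.Agent.Lib.Helper3.HomMk

/-- affine case: if every element of a weakly `M`-regular sequence `rs` kills `G`, then
`ℰxt^c(G, M~) ≅ ℰxt^0(G, (M/rsM)~)`, `c` the length of `rs`. -/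
theorem nonempty_extSh_iso_of_isWeaklyRegular {R : CommRingCat.{u}} (G : (Spec R).Modules)
    [ModSite.HasSheafHom (O := (Spec R).sheaf) G]
    [HasInjectiveResolutions (ModSite.Mod (Spec R).sheaf)] :
    ∀ (rs : List R), (∀ r ∈ rs, mulHom (gf r) G = 0) → ∀ (M : ModuleCat.{u} R),
      RingTheory.Sequence.IsWeaklyRegular M rs →
        Nonempty ((ModSite.extSh (O := (Spec R).sheaf) G rs.length).obj
            ((tilde.functor R).obj M) ≅
          (ModSite.extSh (O := (Spec R).sheaf) G 0).obj ((tilde.functor R).obj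
            (ModuleCat.of R (M ⧸ (Ideal.ofList rs • ⊤ : Submodule R M))))) := by
  haveI hEI : EnoughInjectives (ModSite.Mod (Spec R).sheaf) :=
    Groth.Agent.Lib.Helper13.ModGrothendieck.enoughInjectives (Spec R).ringCatSheaf
  haveI := ModSite.sheafHom_additive (Spec R).sheaf G
  intro rs
  induction rs with
  | nil =>
    intro _ M _
    let e : (M ⧸ (Ideal.ofList ([] : List R) • ⊤ : Submodule R M)) ≃ₗ[R] M :=
      Submodule.quotEquivOfEqBot _ (by rw [Ideal.ofList_nil, Submodule.bot_smul])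
    exact ⟨(ModSite.extSh (O := (Spec R).sheaf) G 0).mapIso
      ((tilde.functor R).mapIso e.symm.toModuleIso)⟩
  | cons r rs ih =>
    intro hG M hM
    have hM0 := hM
    rw [RingTheory.Sequence.isWeaklyRegular_cons_iff] at hM
    obtain ⟨hr, hQ⟩ := hM
    have hS := tilde_smul_shortExact M hr
    obtain ⟨e₁⟩ := ih (fun r' h' => hG r' (List.mem_cons_of_mem _ h'))
      (ModuleCat.of R (QuotSMulTop r M)) hQ
    have hvan : IsZero ((ModSite.extSh (O := (Spec R).sheaf) G rs.length).obj
        ((tilde.functor R).obj M)) :=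
      isZero_extSh_of_isWeaklyRegular G (r :: rs) hG M hM0 rs.length (by simp)
    have hzero : (ModSite.extSh (O := (Spec R).sheaf) G (rs.length + 1)).map
        (((M.smulShortComplex r).map (tilde.functor R)).f) = 0 := by
      have h2 := extSh_map_mulHom_eq_zero (gf r) G (hG r List.mem_cons_self) (rs.length + 1)
        ((tilde.functor R).obj M)
      rw [← tilde_map_smul] at h2
      exact h2
    obtain ⟨e₂⟩ := nonempty_iso_delta (ModSite.sheafHom (O := (Spec R).sheaf) G)
      _ hS rs.length hzero hvan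
    let e₀ := (Submodule.quotOfListConsSMulTopEquivQuotSMulTopInner M r rs).toModuleIso
    exact ⟨e₂.symm ≪≫ e₁ ≪≫ (ModSite.extSh (O := (Spec R).sheaf) G 0).mapIso
      ((tilde.functor R).mapIso e₀.symm)⟩

end Groth.Agent.Lib.Helper2.RegExt
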